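import Groth.Agent.L15.SmoothCrit
import Mathlib.RingTheory.Smooth.Locus
import Mathlib.RingTheory.Kaehler.TensorProduct
import Mathlib.RingTheory.FinitePresentation
import Mathlib.LinearAlgebra.Dimension.Constructions

/-!
Equations cutting out a smooth subscheme through a smooth subscheme of the special fibre: the algebra.

`A → B` is smooth, `Ā` is a quotient of `A` and `C` a quotient of `B` smooth over `Ā`. At a maximal ideal `q` of `B`
containing `J = ker (B → C)`, elements of `J` whose differentials at `q` are a basis of the kernel of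
`Ω_{B/A}(q) → Ω_{C/Ā}(q)` cut out, near `q`, a smooth `A`-subscheme meeting `Spec (B ⊗ Ā)` in `Spec C`.
-/

set_option autoImplicit false
set_option linter.style.haveILetI false

universe u

open scoped TensorProduct
open KaehlerDifferential
open Groth.L15.SmoothCrit (dFib)

noncomputable section

namespace Groth.L07.SmoothThru

variable {A B Ab C : Type u} [CommRing A] [CommRing B] [CommRing Ab] [CommRing C]
  [Algebra A B] [Algebra A Ab] [Algebra B C] [Algebra Ab C] [Algebra A C]
  [IsScalarTower A B C] [IsScalarTower A Ab C]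

variable (q : Ideal B) [q.IsPrime]

theorem dFib_add (a b : B) : dFib (A := A) q (a + b) = dFib q a + dFib q b := by
  simp [dFib, TensorProduct.tmul_add]

theorem dFib_sum {ι : Type*} (s : Finset ι) (a : ι → B) : dFib (A := A) q (∑ i ∈ s, a i) = ∑ i ∈ s, dFib q (a i) := by
  simp [dFib, TensorProduct.tmul_sum]

theorem dFib_mul (a b : B) : dFib (A := A) q (a * b) =
    algebraMap B q.ResidueField a • dFib q b + algebraMap B q.ResidueField b • dFib q a := by
  simp only [dFib, Derivation.leibniz, TensorProduct.tmul_add, TensorProduct.tmul_smul,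
    algebraMap_smul]

theorem dFib_algebraMap (a : A) : dFib (A := A) q (algebraMap A B a) = 0 := by
  simp [dFib]

theorem dFib_eq_zero_of_mem_mul (J : Ideal B) (hJ : J ≤ q) {x : B} (hx : x ∈ q * J) : dFib (A := A) q x = 0 := by
  induction hx using Submodule.mul_induction_on' with
  | mem_mul_mem a ha b hb =>
    rw [dFib_mul, Ideal.algebraMap_residueField_eq_zero.mpr ha, Ideal.algebraMap_residueField_eq_zero.mpr (hJ hb),
      zero_smul, zero_smul, add_zero]
  | add a _ b _ ha hb => rw [dFib_add, ha, hb, add_zero]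

theorem dFib_eq_of_sub_mem (J : Ideal B) (hJ : J ≤ q) {x y : B} (h : x - y ∈ q * J) :
    dFib (A := A) q x = dFib q y := by
  have := dFib_eq_zero_of_mem_mul (A := A) q J hJ h
  rw [show x = y + (x - y) by ring, dFib_add, this, add_zero]

theorem dFib_eq_zero_of_mem_map {x : B} (hq : (RingHom.ker (algebraMap A Ab)).map (algebraMap A B) ≤ q)
    (hx : x ∈ (RingHom.ker (algebraMap A Ab)).map (algebraMap A B)) : dFib (A := A) q x = 0 := by
  induction hx using Submodule.span_induction with
  | mem y hy => obtain ⟨a, -, rfl⟩ := hy; exact dFib_algebraMap q a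
  | zero => simp [dFib]
  | add a b _ _ ha hb => rw [dFib_add, ha, hb, add_zero]
  | smul c a h ha =>
    rw [smul_eq_mul, dFib_mul, ha, smul_zero, zero_add, Ideal.algebraMap_residueField_eq_zero.mpr (hq h), zero_smul]

/-- The tangent space of `J` at `q`. -/
abbrev dSpan (J : Set B) : Submodule q.ResidueField (q.ResidueField ⊗[B] Ω[B⁄A]) :=
  Submodule.span q.ResidueField (dFib (A := A) q '' J)

theorem dSpan_span (J : Set B) (hJ : J ⊆ q) : dSpan (A := A) q (Ideal.span J) = dSpan q J := by
  refine le_antisymm (Submodule.span_le.mpr ?_) (Submodule.span_mono (Set.image_mono Ideal.subset_span))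
  rintro _ ⟨x, hx, rfl⟩
  show dFib q x ∈ dSpan q J
  induction hx using Submodule.span_induction with
  | mem y hy => exact Submodule.subset_span ⟨y, hy, rfl⟩
  | zero => rw [show dFib (A := A) q (0 : B) = 0 by simp [dFib]]; exact zero_mem _
  | add a b _ _ ha hb => rw [dFib_add]; exact add_mem ha hb
  | smul c a h ha =>
    rw [smul_eq_mul, dFib_mul, Ideal.algebraMap_residueField_eq_zero.mpr ((Ideal.span_le.mpr hJ) h), zero_smul,
      add_zero]
    exact Submodule.smul_mem _ _ ha

/-- The rank of the span of the differentials of the ideal. -/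
theorem finrank_dSpan [Algebra.Smooth A B] (hA : Function.Surjective (algebraMap A Ab))
    (hB : Function.Surjective (algebraMap B C)) (Q : Ideal C) [Q.IsPrime] (hQ : Q.comap (algebraMap B C) = q)
    [Algebra.Smooth Ab C] (n e : ℕ) (hn : Module.finrank q.ResidueField (q.ResidueField ⊗[B] Ω[B⁄A]) = n)
    (he : Module.finrank Q.ResidueField (Q.ResidueField ⊗[C] Ω[C⁄Ab]) = e) :
    Module.finrank q.ResidueField (dSpan (A := A) q (RingHom.ker (algebraMap B C))) = n - e := by
  let K := q.ResidueField
  let eK : Q.ResidueField ≃+* K := (RingEquiv.ofBijective _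
    (RingHom.SurjectiveOnStalks.residueFieldMap_bijective
      (RingHom.surjectiveOnStalks_of_surjective hB) q Q hQ.symm)).symm
  let ρ : C →+* K := eK.toRingHom.comp (algebraMap C Q.ResidueField)
  have hρ : ∀ b, ρ (algebraMap B C b) = algebraMap B K b := fun b => by
    apply eK.symm.injective
    show eK.symm (eK (algebraMap C Q.ResidueField (algebraMap B C b))) = eK.symm (algebraMap B K b)
    rw [RingEquiv.symm_apply_apply]
    exact (Ideal.ResidueField.map_algebraMap q Q (algebraMap B C) hQ.symm b).symm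
  letI : Algebra C K := ρ.toAlgebra
  haveI : IsScalarTower B C K := IsScalarTower.of_algebraMap_eq fun b => (hρ b).symm
  haveI : IsScalarTower A Ab C := ‹_›
  have he' : Module.finrank K (K ⊗[C] Ω[C⁄Ab]) = e := by
    rw [← he]
    letI : Algebra Q.ResidueField K := eK.toRingHom.toAlgebra
    haveI : IsScalarTower C Q.ResidueField K := IsScalarTower.of_algebraMap_eq fun _ => rfl
    rw [← (TensorProduct.AlgebraTensorModule.cancelBaseChange C Q.ResidueField K K Ω[C⁄Ab]).finrank_eq,
      Module.finrank_baseChange]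
  let S := dSpan (A := A) q (RingHom.ker (algebraMap B C) : Set B)
  let lp : Ω[B⁄A] →ₗ[B] K ⊗[C] Ω[C⁄Ab] :=
    ((TensorProduct.mk C K Ω[C⁄Ab] 1).restrictScalars B) ∘ₗ KaehlerDifferential.map A Ab B C
  let Φ : K ⊗[B] Ω[B⁄A] →ₗ[K] K ⊗[C] Ω[C⁄Ab] := lp.liftBaseChange K
  have hΦd : ∀ b, Φ (dFib q b) = 1 ⊗ₜ[C] D Ab C (algebraMap B C b) := fun b => by
    show lp.liftBaseChange K ((1 : K) ⊗ₜ[B] D A B b) = _
    rw [LinearMap.liftBaseChange_tmul, one_smul]
    simp [lp, KaehlerDifferential.map_D]
  -- the derivation `C → (K ⊗ Ω_B) / S`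
  let W := (K ⊗[B] Ω[B⁄A]) ⧸ S
  letI : Algebra Ab K := (ρ.comp (algebraMap Ab C)).toAlgebra
  haveI : IsScalarTower Ab C K := IsScalarTower.of_algebraMap_eq fun _ => rfl
  haveI : IsScalarTower C K W := inferInstance
  haveI : IsScalarTower Ab K W := inferInstance
  haveI : IsScalarTower Ab C W := IsScalarTower.of_algebraMap_smul fun a w => by
    rw [← algebraMap_smul K (algebraMap Ab C a) w, ← IsScalarTower.algebraMap_apply, algebraMap_smul]
  let δ : C → W := fun c => S.mkQ (dFib q (hB c).choose)
  have hδ : ∀ b, δ (algebraMap B C b) = S.mkQ (dFib q b) := fun b => by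
    refine (Submodule.Quotient.eq S).mpr (Submodule.subset_span ?_)
    refine ⟨(hB (algebraMap B C b)).choose - b, ?_, ?_⟩
    · rw [SetLike.mem_coe, RingHom.mem_ker, map_sub, (hB _).choose_spec, sub_self]
    · simp [dFib, TensorProduct.tmul_sub]
  have hδadd : ∀ x y, δ (x + y) = δ x + δ y := fun x y => by
    obtain ⟨a, rfl⟩ := hB x; obtain ⟨b, rfl⟩ := hB y
    rw [← map_add, hδ, hδ, hδ, dFib_add, map_add]
  have hδmul : ∀ x y, δ (x * y) = ρ x • δ y + ρ y • δ x := fun x y => by
    obtain ⟨a, rfl⟩ := hB x; obtain ⟨b, rfl⟩ := hB y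
    rw [← map_mul, hδ, hδ, hδ, dFib_mul, hρ, hρ, map_add, map_smul, map_smul]
  have hδA : ∀ a : Ab, δ (algebraMap Ab C a) = 0 := fun a => by
    obtain ⟨a, rfl⟩ := hA a
    rw [← IsScalarTower.algebraMap_apply A Ab C, IsScalarTower.algebraMap_apply A B C, hδ, dFib_algebraMap, map_zero]
  let der : Derivation Ab C W :=
    { toFun := δ
      map_add' := hδadd
      map_smul' := fun a x => by
        show δ (a • x) = a • δ x
        rw [Algebra.smul_def, hδmul, hδA, smul_zero, add_zero, ← IsScalarTower.algebraMap_smul K a (δ x)]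
        rfl
      map_one_eq_zero' := by
        show δ 1 = 0
        rw [← map_one (algebraMap B C), hδ, show dFib (A := A) q (1 : B) = 0 by simp [dFib], map_zero]
      leibniz' := fun x y => (hδmul x y).trans
        (congrArg₂ (· + ·) (algebraMap_smul K x (δ y)) (algebraMap_smul K y (δ x))) }
  let Ψ : K ⊗[C] Ω[C⁄Ab] →ₗ[K] W := der.liftKaehlerDifferential.liftBaseChange K
  have hΨ : Ψ ∘ₗ Φ = S.mkQ := by
    refine LinearMap.ext fun x => ?_
    induction x using TensorProduct.induction_on with
    | zero => simp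
    | add a b ha hb => rw [map_add, map_add, ha, hb]
    | tmul k w =>
      rw [show k ⊗ₜ[B] w = k • ((1 : K) ⊗ₜ[B] w) by rw [TensorProduct.smul_tmul', smul_eq_mul, mul_one], map_smul,
        map_smul]
      congr 1
      have hw : w ∈ Submodule.span B (Set.range (D A B)) := by rw [span_range_derivation]; trivial
      induction hw using Submodule.span_induction with
      | mem w hw =>
        obtain ⟨b, rfl⟩ := hw
        show Ψ (Φ (dFib q b)) = S.mkQ (dFib q b)
        rw [hΦd, ← hδ]
        show der.liftKaehlerDifferential.liftBaseChange K _ = _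
        rw [LinearMap.liftBaseChange_tmul, one_smul, Derivation.liftKaehlerDifferential_comp_D]
        rfl
      | zero => simp
      | add a b _ _ ha hb => rw [TensorProduct.tmul_add, map_add, map_add, ha, hb]
      | smul t a _ ha => rw [TensorProduct.tmul_smul, ← algebraMap_smul K t ((1 : K) ⊗ₜ[B] a), map_smul, map_smul, ha]
  have hΦS : S ≤ LinearMap.ker Φ := Submodule.span_le.mpr (by
    rintro _ ⟨b, hb, rfl⟩
    rw [SetLike.mem_coe, LinearMap.mem_ker, hΦd, show algebraMap B C b = 0 from hb, map_zero, TensorProduct.tmul_zero])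
  have hΦs : Function.Surjective Φ := fun y => by
    induction y using TensorProduct.induction_on with
    | zero => exact ⟨0, map_zero _⟩
    | add a b ha hb =>
      obtain ⟨a', rfl⟩ := ha; obtain ⟨b', rfl⟩ := hb
      exact ⟨a' + b', map_add _ _ _⟩
    | tmul k w =>
      obtain ⟨w', rfl⟩ := KaehlerDifferential.map_surjective_of_surjective (R := A) (S := Ab) (A := B) (B := C) hB w
      exact ⟨k ⊗ₜ w', by
        show lp.liftBaseChange K (k ⊗ₜ[B] w') = _
        rw [LinearMap.liftBaseChange_tmul]
        simp [lp, TensorProduct.smul_tmul']⟩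
  have hinj : LinearMap.ker Φ = S := by
    refine le_antisymm (fun x hx => ?_) hΦS
    rw [← Submodule.ker_mkQ S, LinearMap.mem_ker, ← hΨ, LinearMap.comp_apply, LinearMap.mem_ker.mp hx, map_zero]
  have h1 := LinearMap.finrank_range_add_finrank_ker Φ
  rw [(LinearEquiv.ofTop _ (LinearMap.range_eq_top.mpr hΦs)).finrank_eq, hinj] at h1
  have h2 : e + Module.finrank K S = n := by rw [← he', ← hn]; exact h1
  exact Nat.eq_sub_of_add_eq' h2

/-- A basis of the tangent space of `J` chosen among given generators. -/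
theorem exists_equations [Algebra.Smooth A B] {J : Set B} (c : ℕ)
    (hc : Module.finrank q.ResidueField (dSpan (A := A) q J) = c) :
    ∃ h : Fin c → B, (∀ i, h i ∈ J) ∧ LinearIndependent q.ResidueField fun i => dFib (A := A) q (h i) := by
  obtain ⟨t, htJ, htspan, hli⟩ := exists_linearIndependent q.ResidueField (dFib (A := A) q '' J)
  haveI : Fintype t := hli.set_finite_of_isNoetherian.fintype
  have hcard : Fintype.card t = c := by
    rw [← hc, dSpan, ← htspan, ← finrank_span_eq_card hli, Subtype.range_coe]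
  choose g hg hgd using fun z : t => htJ z.2
  let eq := Fintype.equivFinOfCardEq hcard
  refine ⟨fun i => g (eq.symm i), fun i => hg _, ?_⟩
  simp only [hgd]
  exact hli.comp _ eq.symm.injective

/-- Equations with a basis of differentials cut out a smooth subscheme through `Spec C`. -/
theorem smooth_and_eq [Algebra.Smooth A B] (hA : Function.Surjective (algebraMap A Ab))
    (hB : Function.Surjective (algebraMap B C)) [Algebra.Smooth Ab C] (hq : RingHom.ker (algebraMap B C) ≤ q)
    [q.IsMaximal] {c : ℕ} (hc : Module.finrank q.ResidueField (dSpan (A := A) q (RingHom.ker (algebraMap B C))) = c)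
    (h : Fin c → B) (hh : ∀ i, h i ∈ RingHom.ker (algebraMap B C))
    (hli : LinearIndependent q.ResidueField fun i => dFib (A := A) q (h i)) :
    ∃ t : B, t ∉ q ∧ Algebra.Smooth A (Localization.Away (Ideal.Quotient.mk (Ideal.span (Set.range h)) t)) ∧
      ∀ b ∈ RingHom.ker (algebraMap B C), ∃ N : ℕ,
        t ^ N * b ∈ Ideal.span (Set.range h) ⊔ (RingHom.ker (algebraMap A Ab)).map (algebraMap A B) := by
  classical
  set J := RingHom.ker (algebraMap B C) with hJ
  set H := Ideal.span (Set.range h) with hH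
  have hHJ : H ≤ J := Ideal.span_le.mpr (by rintro _ ⟨i, rfl⟩; exact hh i)
  let Ib := (RingHom.ker (algebraMap A Ab)).map (algebraMap A B)
  have hIJ : Ib ≤ J := Ideal.map_le_iff_le_comap.mpr fun a ha => by
    show algebraMap B C (algebraMap A B a) = 0
    rw [← IsScalarTower.algebraMap_apply, IsScalarTower.algebraMap_apply A Ab C, RingHom.mem_ker.mp ha, map_zero]
  -- smoothness of `B / H` at `q`
  let p : Ideal (B ⧸ H) := q.map (Ideal.Quotient.mk H)
  haveI : p.IsPrime := Ideal.map_isPrime_of_surjective Ideal.Quotient.mk_surjective (by rw [Ideal.mk_ker]; exact hHJ.trans hq)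
  have hpq : q = p.comap (algebraMap B (B ⧸ H)) :=
    ((Ideal.comap_map_of_surjective _ Ideal.Quotient.mk_surjective q).trans
      (sup_eq_left.mpr (by rw [← RingHom.ker_eq_comap_bot, Ideal.mk_ker]; exact hHJ.trans hq))).symm
  haveI hsm : Algebra.IsSmoothAt A p := by
    refine (Groth.L15.SmoothCrit.smoothAt_iff (R := B ⧸ H) Ideal.Quotient.mk_surjective
      (by rw [Ideal.Quotient.algebraMap_eq, Ideal.mk_ker]; exact Submodule.fg_span (Set.finite_range h)) p q hpq).mpr
      ⟨Finset.univ.image h, ?_, ?_, ?_⟩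
    · intro x hx
      simp only [Finset.coe_image, Finset.coe_univ, Set.image_univ, Set.mem_range] at hx
      obtain ⟨i, rfl⟩ := hx
      rw [SetLike.mem_coe, Ideal.Quotient.algebraMap_eq, Ideal.mk_ker]
      exact Ideal.subset_span ⟨i, rfl⟩
    · rw [Ideal.Quotient.algebraMap_eq, Ideal.mk_ker, hH, Ideal.map_span]
      simp
    · have hinj : Function.Injective h := fun i j hij => hli.injective (by simp only [hij])
      refine (linearIndependent_equiv' (Equiv.ofBijective
        (fun i : Fin c => (⟨h i, Finset.mem_image_of_mem h (Finset.mem_univ i)⟩ : ↥(Finset.univ.image h)))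
        ⟨fun i j hij => hinj (congrArg Subtype.val hij), fun ⟨x, hx⟩ => by
          obtain ⟨i, -, rfl⟩ := Finset.mem_image.1 hx; exact ⟨i, rfl⟩⟩) ?_).1 hli
      rfl
  haveI : Algebra.FinitePresentation A (B ⧸ H) :=
    Algebra.FinitePresentation.quotient (Submodule.fg_span (Set.finite_range h))
  obtain ⟨t₁, ht₁, hsm₁⟩ := Algebra.IsSmoothAt.exists_notMem_smooth A p
  obtain ⟨t₁, rfl⟩ := Ideal.Quotient.mk_surjective t₁
  have ht₁q : t₁ ∉ q := fun hh' => ht₁ (Ideal.mem_map_of_mem _ hh')
  -- `Ab ⊗ B` as the quotient `P`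
  let P := B ⧸ Ib
  let G₀ : {g : A →+* P // RingHom.ker (algebraMap A Ab) ≤ RingHom.ker g} :=
    ⟨algebraMap A P, fun a ha => by
      rw [RingHom.mem_ker, IsScalarTower.algebraMap_apply A B P, Ideal.Quotient.algebraMap_eq,
        Ideal.Quotient.eq_zero_iff_mem]
      exact Ideal.mem_map_of_mem _ ha⟩
  let θ : Ab →+* P := RingHom.liftOfRightInverse (algebraMap A Ab) _ (Function.rightInverse_surjInv hA) G₀
  letI : Algebra Ab P := θ.toAlgebra
  haveI : IsScalarTower A Ab P := IsScalarTower.of_algebraMap_eq fun a =>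
    (RingHom.liftOfRightInverse_comp_apply (algebraMap A Ab) _ (Function.rightInverse_surjInv hA) G₀ a).symm
  let π : P →+* C := Ideal.Quotient.lift Ib (algebraMap B C) fun x hx => hIJ hx
  letI : Algebra P C := π.toAlgebra
  haveI : IsScalarTower B P C := IsScalarTower.of_algebraMap_eq fun _ => rfl
  haveI : IsScalarTower Ab P C := IsScalarTower.of_algebraMap_eq fun a => by
    obtain ⟨a, rfl⟩ := hA a
    rw [← IsScalarTower.algebraMap_apply A Ab C, ← IsScalarTower.algebraMap_apply A Ab P,
      IsScalarTower.algebraMap_apply A B C]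
    rfl
  haveI : Algebra.Smooth Ab P := by
    let f₁ : Ab ⊗[A] B →ₐ[Ab] P :=
      Algebra.TensorProduct.lift (Algebra.ofId Ab P) (Ideal.Quotient.mkₐ A Ib) fun _ _ => Commute.all _ _
    let g₁ : P →+* Ab ⊗[A] B := Ideal.Quotient.lift Ib
      (Algebra.TensorProduct.includeRight : B →ₐ[A] Ab ⊗[A] B).toRingHom fun x hx => by
        refine (Ideal.map_le_iff_le_comap (K := RingHom.ker
          (Algebra.TensorProduct.includeRight : B →ₐ[A] Ab ⊗[A] B).toRingHom)).mpr (fun a ha => ?_) hx
        show (1 : Ab) ⊗ₜ[A] algebraMap A B a = 0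
        rw [Algebra.algebraMap_eq_smul_one, ← TensorProduct.smul_tmul, Algebra.smul_def, RingHom.mem_ker.mp ha,
          zero_mul, TensorProduct.zero_tmul]
    refine Algebra.Smooth.of_equiv (AlgEquiv.ofBijective f₁ ?_)
    refine Function.bijective_iff_has_inverse.mpr ⟨g₁, fun z => ?_, fun z => ?_⟩
    · induction z using TensorProduct.induction_on with
      | zero => simp
      | add a b ha hb => rw [map_add, map_add, ha, hb]
      | tmul a b =>
        obtain ⟨a, rfl⟩ := hA a
        show g₁ (algebraMap Ab P (algebraMap A Ab a) * Ideal.Quotient.mk Ib b) = _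
        rw [← IsScalarTower.algebraMap_apply, IsScalarTower.algebraMap_apply A B P, Ideal.Quotient.algebraMap_eq,
          ← map_mul]
        show (1 : Ab) ⊗ₜ[A] (algebraMap A B a * b) = _
        rw [← Algebra.smul_def, ← TensorProduct.smul_tmul, ← Algebra.algebraMap_eq_smul_one]
    · obtain ⟨b, rfl⟩ := Ideal.Quotient.mk_surjective z
      show algebraMap Ab P 1 * Ideal.Quotient.mk Ib b = _
      rw [map_one, one_mul]
  haveI : Algebra.FinitePresentation Ab C := inferInstance
  have hπ : Function.Surjective π := Ideal.Quotient.lift_surjective_of_surjective _ _ hB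
  have hfg : (RingHom.ker π).FG := Algebra.FinitePresentation.ker_fG_of_surjective
    (IsScalarTower.toAlgHom Ab P C) hπ
  let Q : Ideal C := q.map (algebraMap B C)
  haveI : Q.IsPrime := Ideal.map_isPrime_of_surjective hB hq
  have hQq : q = Q.comap (algebraMap B C) :=
    ((Ideal.comap_map_of_surjective _ hB q).trans (sup_eq_left.mpr (by rw [← RingHom.ker_eq_comap_bot]; exact hq))).symm
  let qb : Ideal P := Q.comap π
  haveI : qb.IsPrime := Ideal.comap_isPrime _ _
  have hqb : q = qb.comap (algebraMap B P) := hQq.trans (by rw [Ideal.comap_comap]; rfl)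
  haveI : Algebra.IsSmoothAt Ab Q := Algebra.FormallySmooth.comp Ab C _
  obtain ⟨s, hs, hsgen, hsli⟩ := (Groth.L15.SmoothCrit.smoothAt_iff (A := Ab) (B := P) (R := C) hπ hfg Q qb rfl).mp
    inferInstance
  -- the differentials downstairs
  let K := q.ResidueField
  let κ := Ideal.ResidueField.map q qb (algebraMap B P) hqb
  letI : Algebra K qb.ResidueField := κ.toAlgebra
  haveI : IsScalarTower B K qb.ResidueField := IsScalarTower.of_algebraMap_eq fun b => by
    rw [IsScalarTower.algebraMap_apply B P qb.ResidueField]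
    exact (Ideal.ResidueField.map_algebraMap q qb (algebraMap B P) hqb b).symm
  let lp : Ω[B⁄A] →ₗ[B] qb.ResidueField ⊗[P] Ω[P⁄Ab] :=
    ((TensorProduct.mk P qb.ResidueField Ω[P⁄Ab] 1).restrictScalars B) ∘ₗ KaehlerDifferential.map A Ab B P
  let φ : K ⊗[B] Ω[B⁄A] →ₗ[K] qb.ResidueField ⊗[P] Ω[P⁄Ab] := lp.liftBaseChange K
  have hφ : ∀ b, φ (dFib q b) = dFib (A := Ab) qb (Ideal.Quotient.mk Ib b) := fun b => by
    show lp.liftBaseChange K ((1 : K) ⊗ₜ[B] D A B b) = _
    rw [LinearMap.liftBaseChange_tmul, one_smul]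
    simp [lp, dFib, KaehlerDifferential.map_D]
    rfl
  choose g hg using fun z : s => Ideal.Quotient.mk_surjective (z : P)
  have hgJ : ∀ z, g z ∈ J := fun z => by
    show algebraMap B C (g z) = 0
    have := hs z.2
    rw [← hg z] at this
    exact this
  have hgli : LinearIndependent K fun z => dFib (A := A) q (g z) := by
    refine LinearIndependent.of_comp φ ?_
    simp only [Function.comp_def, hφ, hg]
    exact hsli.restrict_scalars (fun a b hab => by simpa [Algebra.smul_def] using hab)
  have hspan : Submodule.span K (Set.range fun i => dFib (A := A) q (h i)) = dSpan q (J : Set B) := by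
    refine Submodule.eq_of_le_of_finrank_eq (Submodule.span_le.mpr ?_) ?_
    · rintro _ ⟨i, rfl⟩
      exact Submodule.subset_span ⟨h i, hh i, rfl⟩
    · rw [hc, finrank_span_eq_card hli, Fintype.card_fin]
  -- `J = H + Ib` near `q`
  let Bq := Localization.AtPrime q
  let J' := J.map (algebraMap B Bq)
  let G := Ideal.span (Set.range g)
  have hJG : ∀ b ∈ J, ∃ t ∉ q, t * b ∈ G ⊔ Ib := fun b hb => by
    have h1 : algebraMap P (Localization.AtPrime qb) (Ideal.Quotient.mk Ib b) ∈
        (Ideal.span (s : Set P)).map (algebraMap P (Localization.AtPrime qb)) := by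
      rw [Ideal.map_span, ← hsgen]
      exact Ideal.mem_map_of_mem _ hb
    rw [IsLocalization.algebraMap_mem_map_algebraMap_iff qb.primeCompl] at h1
    obtain ⟨w, hw, hwb⟩ := h1
    obtain ⟨w, rfl⟩ := Ideal.Quotient.mk_surjective w
    refine ⟨w, fun hwq => hw (hqb.le hwq), ?_⟩
    have e : Ideal.span (s : Set P) ≤ G.map (Ideal.Quotient.mk Ib) :=
      Ideal.span_le.mpr fun z hz => by
        rw [SetLike.mem_coe, ← show Ideal.Quotient.mk Ib (g ⟨z, hz⟩) = z from hg ⟨z, hz⟩]
        exact Ideal.mem_map_of_mem _ (Ideal.subset_span ⟨⟨z, hz⟩, rfl⟩)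
    have h2 := e hwb
    rw [← map_mul, ← Ideal.mem_comap, Ideal.comap_map_of_surjective _ Ideal.Quotient.mk_surjective,
      ← RingHom.ker_eq_comap_bot, Ideal.mk_ker] at h2
    exact h2
  have hresid : ∀ z, g z ∈ H ⊔ Ib ⊔ q * G := fun z => by
    obtain ⟨a, ha⟩ := (Submodule.mem_span_range_iff_exists_fun K).mp
      (show dFib (A := A) q (g z) ∈ Submodule.span K (Set.range fun i => dFib q (h i)) from
        hspan ▸ Submodule.subset_span ⟨g z, hgJ z, rfl⟩)
    choose a' ha' using fun i => q.algebraMap_residueField_surjective (a i)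
    let x := g z - ∑ i, a' i * h i
    have hx : x ∈ J := sub_mem (hgJ z) (sum_mem fun i _ => Ideal.mul_mem_left _ _ (hh i))
    have hx0 : dFib (A := A) q x = 0 := by
      have hsum : dFib (A := A) q (∑ i, a' i * h i) = dFib q (g z) := by
        rw [dFib_sum, ← ha]
        refine Finset.sum_congr rfl fun i _ => ?_
        rw [dFib_mul, Ideal.algebraMap_residueField_eq_zero.mpr (hq (hh i)), zero_smul, add_zero, ha']
      have e : dFib (A := A) q (g z) = dFib q x + dFib q (∑ i, a' i * h i) := by rw [← dFib_add]; simp [x]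
      rw [hsum] at e
      exact right_eq_add.mp e
    obtain ⟨t, ht, htx⟩ := hJG x hx
    obtain ⟨y, hy, w, hw, hyw⟩ := Submodule.mem_sup.mp htx
    obtain ⟨b, hb⟩ := (Submodule.mem_span_range_iff_exists_fun B).mp hy
    have hIbq : Ib ≤ q := hIJ.trans hq
    have hdy : ∑ w, algebraMap B K (b w) • dFib (A := A) q (g w) = 0 := by
      have := congrArg (dFib (A := A) q) hyw
      rw [dFib_add, dFib_eq_zero_of_mem_map q hIbq hw, add_zero, dFib_mul, hx0, smul_zero, zero_add,
        Ideal.algebraMap_residueField_eq_zero.mpr (hq hx), zero_smul, ← hb, dFib_sum] at this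
      rw [← this]
      refine Finset.sum_congr rfl fun i _ => ?_
      rw [smul_eq_mul, dFib_mul, Ideal.algebraMap_residueField_eq_zero.mpr (hq (hgJ i)), zero_smul, add_zero]
    have hbq : ∀ w, b w ∈ q := fun w => Ideal.algebraMap_residueField_eq_zero.mp (Fintype.linearIndependent_iff.mp hgli _ hdy w)
    have htx' : t * x ∈ H ⊔ Ib ⊔ q * G := hyw ▸ add_mem
      (Submodule.mem_sup_right (hb ▸ sum_mem fun w _ => Ideal.mul_mem_mul (hbq w) (Ideal.subset_span ⟨w, rfl⟩)))
      (Submodule.mem_sup_left (Submodule.mem_sup_right hw))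
    obtain ⟨u, v, hv, huv⟩ := Ideal.IsMaximal.exists_inv (I := q) inferInstance ht
    have hgz : g z = u * (t * x) + v * x + ∑ i, a' i * h i := by
      linear_combination (-x) * huv
    rw [hgz]
    refine add_mem (add_mem (Ideal.mul_mem_left _ _ htx') ?_) ?_
    · have hxG : u * (t * x) + v * x = x := by linear_combination x * huv
      have : v * x = v * g z - ∑ i, v * a' i * h i := by
        simp only [x, mul_sub, Finset.mul_sum, mul_assoc]
      rw [this]
      exact sub_mem (Submodule.mem_sup_right (Ideal.mul_mem_mul hv (Ideal.subset_span ⟨z, rfl⟩)))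
        (Submodule.mem_sup_left (Submodule.mem_sup_left (sum_mem fun i _ => Ideal.mul_mem_left _ _ (Ideal.subset_span ⟨i, rfl⟩))))
    · exact Submodule.mem_sup_left (Submodule.mem_sup_left (sum_mem fun i _ => Ideal.mul_mem_left _ _ (Ideal.subset_span ⟨i, rfl⟩)))
  have hGle : G ≤ H ⊔ Ib ⊔ q • G := by
    refine Ideal.span_le.mpr ?_
    rintro _ ⟨z, rfl⟩
    exact hresid z
  -- Nakayama
  let N := H ⊔ Ib
  obtain ⟨r, hr, hrG⟩ := Submodule.exists_sub_one_mem_and_smul_eq_zero_of_fg_of_le_smul q
    (Submodule.map N.mkQ G) ((Submodule.fg_span (Set.finite_range g)).map _) (by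
      rw [← Submodule.map_smul'']
      refine (Submodule.map_mono hGle).trans ?_
      rw [Submodule.map_sup, show Submodule.map N.mkQ N = ⊥ by
        rw [← le_bot_iff, Submodule.map_le_iff_le_comap, Submodule.comap_bot, Submodule.ker_mkQ], bot_sup_eq])
  have hrq : r ∉ q := fun hrq => Ideal.IsPrime.ne_top' ((Ideal.eq_top_iff_one q).mpr (by simpa using sub_mem hrq hr))
  have hJt : ∀ b ∈ J, ∃ t ∉ q, t * b ∈ H ⊔ Ib := fun b hb => by
    obtain ⟨t, ht, htb⟩ := hJG b hb
    refine ⟨r * t, fun hh' => (‹q.IsPrime›.mem_or_mem hh').elim hrq ht, ?_⟩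
    obtain ⟨y, hy, w, hw, hyw⟩ := Submodule.mem_sup.mp htb
    rw [mul_assoc, ← hyw, mul_add]
    refine add_mem ?_ (Ideal.mul_mem_left _ _ (Submodule.mem_sup_right hw))
    have := hrG (N.mkQ y) ⟨y, hy, rfl⟩
    rw [← map_smul, Submodule.mkQ_apply, Submodule.Quotient.mk_eq_zero] at this
    exact this
  obtain ⟨T, hT⟩ := hfg
  have hTJ : ∀ z : T, ∃ b ∈ J, Ideal.Quotient.mk Ib b = z := fun z => by
    obtain ⟨b, hb⟩ := Ideal.Quotient.mk_surjective (z : P)
    refine ⟨b, ?_, hb⟩
    have hz : (z : P) ∈ RingHom.ker π := hT ▸ Ideal.subset_span z.2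
    rw [← hb] at hz
    exact hz
  choose lift hlift hliftmk using hTJ
  choose tz htz htzmem using fun z : T => hJt (lift z) (hlift z)
  refine ⟨t₁ * ∏ z, tz z, fun hh' => ?_, ?_, fun b hb => ⟨1, ?_⟩⟩
  · rcases ‹q.IsPrime›.mem_or_mem hh' with h' | h'
    · exact ht₁q h'
    · obtain ⟨z, -, hz⟩ := ‹q.IsPrime›.prod_mem_iff.mp h'
      exact htz z hz
  · rw [← Algebra.basicOpen_subset_smoothLocus_iff_smooth] at hsm₁ ⊢
    rw [map_mul]
    exact Set.Subset.trans (PrimeSpectrum.basicOpen_mul_le_left _ _) hsm₁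
  · rw [pow_one]
    have hb' : Ideal.Quotient.mk Ib b ∈ Ideal.span (Set.range fun z : T => Ideal.Quotient.mk Ib (lift z)) := by
      simp only [hliftmk]
      rw [show Set.range (fun z : T => (z : P)) = (T : Set P) from Subtype.range_coe]
      exact hT.symm ▸ (show Ideal.Quotient.mk Ib b ∈ RingHom.ker π from hb)
    rw [show (fun z : T => Ideal.Quotient.mk Ib (lift z)) = Ideal.Quotient.mk Ib ∘ lift from rfl, Set.range_comp,
      ← Ideal.map_span, ← Ideal.mem_comap, Ideal.comap_map_of_surjective _ Ideal.Quotient.mk_surjective,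
      ← RingHom.ker_eq_comap_bot, Ideal.mk_ker] at hb'
    obtain ⟨y, hy, w, hw, hyw⟩ := Submodule.mem_sup.mp hb'
    rw [← hyw, mul_add]
    refine add_mem ?_ (Ideal.mul_mem_left _ _ (Submodule.mem_sup_right hw))
    obtain ⟨a, ha⟩ := (Submodule.mem_span_range_iff_exists_fun B).mp hy
    rw [← ha, Finset.mul_sum]
    refine sum_mem fun z _ => ?_
    obtain ⟨w, hw⟩ := Finset.dvd_prod_of_mem tz (Finset.mem_univ z)
    rw [smul_eq_mul, show t₁ * (∏ z, tz z) * (a z * lift z) = t₁ * w * a z * (tz z * lift z) by rw [hw]; ring]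
    exact Ideal.mul_mem_left _ _ (htzmem z)

end Groth.L07.SmoothThru
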