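import Groth.Agent.L07.SmoothThru.Alg
import Groth.Agent.L01.EtaEtale
import Mathlib.AlgebraicGeometry.Morphisms.Smooth
import Mathlib.AlgebraicGeometry.Morphisms.ClosedImmersion

/-!
A smooth subscheme through a smooth subscheme of a closed subscheme of the base: the geometry.
-/

set_option autoImplicit false
set_option linter.style.haveILetI false
set_option backward.isDefEq.respectTransparency false
set_option backward.isDefEq.respectTransparency.types false
set_option maxHeartbeats 1600000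

universe u

open CategoryTheory CategoryTheory.Limits AlgebraicGeometry TopologicalSpace
open scoped TensorProduct
open Groth.L15.SmoothCrit (dFib)

noncomputable section

namespace Groth.L07.SmoothThru

/-- The prime of a point in an affine open. -/
theorem mem_primeIdealOf {X : Scheme.{u}} {O : X.Opens} (hO : IsAffineOpen O) {x : X} (hx : x ∈ O) (b : Γ(X, O)) :
    b ∈ (hO.primeIdealOf ⟨x, hx⟩).asIdeal ↔ x ∉ X.basicOpen b := by
  rw [← not_iff_not, not_not]
  conv_rhs => rw [show x = hO.fromSpec (hO.primeIdealOf ⟨x, hx⟩) from (hO.fromSpec_primeIdealOf ⟨x, hx⟩).symm]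
  show _ ↔ hO.primeIdealOf ⟨x, hx⟩ ∈ hO.fromSpec ⁻¹ᵁ X.basicOpen b
  rw [hO.fromSpec_preimage_basicOpen]
  rfl

theorem finrank_fibre {K S : Type u} [CommRing K] [CommRing S] [Algebra K S] (d : ℕ)
    (h : SmoothOfRelativeDimension d (Spec.map (CommRingCat.ofHom (algebraMap K S)))) (q : Ideal S) [q.IsPrime] :
    Module.finrank q.ResidueField (q.ResidueField ⊗[S] Ω[S⁄K]) = d := by
  haveI : Algebra.Smooth K S := Groth.L01.EtaEtale.smooth_of_relDim K S d h
  rw [← Groth.L01.EtaEtale.rankAtStalk_kaehler K S d h ⟨q, inferInstance⟩, Module.rankAtStalk_eq]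

theorem smoothOfRelDim_appLE {X Y : Scheme.{u}} (f : X ⟶ Y) (n : ℕ) [SmoothOfRelativeDimension n f] {U : Y.Opens}
    (hU : IsAffineOpen U) {V : X.Opens} (hV : IsAffineOpen V) (e : V ≤ f ⁻¹ᵁ U) :
    SmoothOfRelativeDimension n (Spec.map (CommRingCat.ofHom (f.appLE U V e).hom)) := by
  rw [HasRingHomProperty.Spec_iff (P := @SmoothOfRelativeDimension n), CommRingCat.hom_ofHom]
  exact HasRingHomProperty.appLE (@SmoothOfRelativeDimension n) f inferInstance ⟨U, hU⟩ ⟨V, hV⟩ e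

variable {X₁ X₂ Z₁ Z₂ : Scheme.{u}} [IsAffine X₂] (i₁ : Z₁ ⟶ X₁) (i₂ : Z₂ ⟶ X₂)
    [IsClosedImmersion i₁] [IsClosedImmersion i₂]
    (f : X₂ ⟶ X₁) (g : Z₂ ⟶ Z₁) (n e : ℕ)
    [SmoothOfRelativeDimension n f] [SmoothOfRelativeDimension e g] (hsq : i₂ ≫ f = g ≫ i₁)

/-- The equations of `Z₂`. -/
abbrev eqIdeal : Ideal Γ(X₂, ⊤) := RingHom.ker (i₂.app ⊤).hom

theorem ker_app_eq_map {O : X₂.Opens} (hO : IsAffineOpen O) :
    RingHom.ker (i₂.app O).hom = (eqIdeal i₂).map (X₂.presheaf.map (homOfLE le_top).op).hom := by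
  rw [eqIdeal, ← Scheme.Hom.ker_apply i₂ ⟨O, hO⟩, ← Scheme.Hom.ker_apply i₂ ⟨⊤, isAffineOpen_top X₂⟩]
  exact (i₂.ker.map_ideal (U := ⟨O, hO⟩) (V := ⟨⊤, isAffineOpen_top X₂⟩) (show O ≤ ⊤ from le_top)).symm

/-- The prime of a point in the whole affine scheme. -/
abbrev pr (x : X₂) : Ideal Γ(X₂, ⊤) := ((isAffineOpen_top X₂).primeIdealOf ⟨x, trivial⟩).asIdeal

include hsq in
/-- The data at a closed point of `Z₂`: candidates for the equations, and their use. -/
theorem local_data {x : X₂} (hx : IsClosed {x}) (hxZ : x ∈ Set.range i₂) :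
    ∃ hc : Fin (n - e) → Γ(X₂, ⊤), (∀ i, hc i ∈ eqIdeal i₂) ∧
      ∀ h : Fin (n - e) → Γ(X₂, ⊤), (∀ i, h i ∈ eqIdeal i₂) → (∀ i, h i - hc i ∈ pr x * eqIdeal i₂) →
        ∃ (D : X₁.Opens) (_ : IsAffineOpen D) (O : X₂.Opens) (_ : IsAffineOpen O) (eO : O ≤ f ⁻¹ᵁ D), x ∈ O ∧
          (∀ (W : Scheme.{u}) (j : W ⟶ X₂), IsAffineHom j → Function.Surjective (j.app O).hom →
            RingHom.ker (j.app O).hom =
              (Ideal.span (Set.range h)).map (X₂.presheaf.map (homOfLE le_top).op).hom →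
            ((f.appLE D O eO ≫ j.app O).hom).Smooth) ∧
          RingHom.ker (i₂.app O).hom ≤ (Ideal.span (Set.range h)).map (X₂.presheaf.map (homOfLE le_top).op).hom ⊔
            (RingHom.ker (i₁.app D).hom).map (f.appLE D O eO).hom := by
  obtain ⟨_, ⟨D, hD, rfl⟩, hfxD, -⟩ :=
    X₁.isBasis_affineOpens.exists_subset_of_mem_open (Set.mem_univ (f x)) isOpen_univ
  obtain ⟨O, hO, hxO, hOD⟩ := exists_isAffineOpen_mem_and_subset (show x ∈ f ⁻¹ᵁ D from hfxD)
  have hZ₁ : IsAffineOpen (i₁ ⁻¹ᵁ D) := hD.preimage i₁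
  have hZ₂ : IsAffineOpen (i₂ ⁻¹ᵁ O) := hO.preimage i₂
  have e' : i₂ ⁻¹ᵁ O ≤ g ⁻¹ᵁ (i₁ ⁻¹ᵁ D) := by
    rw [← Scheme.Hom.comp_preimage, ← hsq, Scheme.Hom.comp_preimage]
    exact i₂.preimage_mono hOD
  let A := Γ(X₁, D)
  let B := Γ(X₂, O)
  let Ab := Γ(Z₁, i₁ ⁻¹ᵁ D)
  let C := Γ(Z₂, i₂ ⁻¹ᵁ O)
  letI : Algebra A B := (f.appLE D O hOD).hom.toAlgebra
  letI : Algebra A Ab := (i₁.app D).hom.toAlgebra
  letI : Algebra B C := (i₂.app O).hom.toAlgebra
  letI : Algebra Ab C := (g.appLE (i₁ ⁻¹ᵁ D) (i₂ ⁻¹ᵁ O) e').hom.toAlgebra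
  letI : Algebra A C := ((i₂.app O).hom.comp (f.appLE D O hOD).hom).toAlgebra
  haveI : IsScalarTower A B C := IsScalarTower.of_algebraMap_eq fun _ => rfl
  haveI : IsScalarTower A Ab C := IsScalarTower.of_algebraMap_eq' (by
    show (i₂.app O).hom.comp (f.appLE D O hOD).hom = (g.appLE (i₁ ⁻¹ᵁ D) (i₂ ⁻¹ᵁ O) e').hom.comp (i₁.app D).hom
    rw [← CommRingCat.hom_comp, ← CommRingCat.hom_comp, Scheme.Hom.app_eq_appLE, Scheme.Hom.app_eq_appLE,
      Scheme.Hom.appLE_comp_appLE, Scheme.Hom.appLE_comp_appLE]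
    congr 2)
  haveI : Smooth f := SmoothOfRelativeDimension.smooth n f
  haveI : Smooth g := SmoothOfRelativeDimension.smooth e g
  haveI : Algebra.Smooth A B := f.smooth_appLE hD hO hOD
  haveI : Algebra.Smooth Ab C := g.smooth_appLE hZ₁ hZ₂ e'
  have hA : Function.Surjective (algebraMap A Ab) := by
    show Function.Surjective (i₁.app D).hom
    exact i₁.app_surjective D hD
  have hB : Function.Surjective (algebraMap B C) := by
    show Function.Surjective (i₂.app O).hom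
    exact i₂.app_surjective O hO
  let q : Ideal B := (hO.primeIdealOf ⟨x, hxO⟩).asIdeal
  haveI : q.IsMaximal := hO.primeIdealOf_isMaximal_of_isClosed ⟨x, hxO⟩ hx
  have hq : RingHom.ker (algebraMap B C) ≤ q := fun b hb => (mem_primeIdealOf hO hxO b).mpr fun hxb => by
    obtain ⟨z, rfl⟩ := hxZ
    have h0 : z ∈ Z₂.basicOpen ((i₂.app O).hom b) := by
      rw [← Scheme.preimage_basicOpen]; exact hxb
    rw [show (i₂.app O).hom b = 0 from hb, Scheme.basicOpen_zero] at h0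
    exact h0
  let Q : Ideal C := q.map (algebraMap B C)
  haveI : Q.IsPrime := Ideal.map_isPrime_of_surjective hB hq
  have hQ : Q.comap (algebraMap B C) = q :=
    (Ideal.comap_map_of_surjective _ hB q).trans (sup_eq_left.mpr (by rw [← RingHom.ker_eq_comap_bot]; exact hq))
  have hrank : Module.finrank q.ResidueField (dSpan (A := A) q (RingHom.ker (algebraMap B C))) = n - e :=
    finrank_dSpan q hA hB Q hQ n e (finrank_fibre n (smoothOfRelDim_appLE f n hD hO hOD) q)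
      (finrank_fibre e (smoothOfRelDim_appLE g e hZ₁ hZ₂ e') Q)
  let ρ : Γ(X₂, ⊤) →+* B := (X₂.presheaf.map (homOfLE le_top).op).hom
  have hJ : RingHom.ker (algebraMap B C) = (eqIdeal i₂).map ρ := ker_app_eq_map i₂ hO
  have hρJ : ρ '' (eqIdeal i₂ : Set Γ(X₂, ⊤)) ⊆ q := by
    rintro _ ⟨b, hb, rfl⟩
    exact hq (hJ.symm ▸ Ideal.mem_map_of_mem ρ hb)
  obtain ⟨hc', hc'J, hc'li⟩ := exists_equations (A := A) q (J := ρ '' (eqIdeal i₂ : Set Γ(X₂, ⊤))) (n - e) (by
    rw [← dSpan_span q _ hρJ]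
    show Module.finrank q.ResidueField (dSpan (A := A) q ((eqIdeal i₂).map ρ : Set B)) = n - e
    rw [← hJ, hrank])
  choose hc hcJ hcρ using hc'J
  refine ⟨hc, hcJ, fun h hh hhc => ?_⟩
  have hρpr : (pr x).map ρ ≤ q := Ideal.map_le_iff_le_comap.mpr fun b hb => by
    rw [Ideal.mem_comap, mem_primeIdealOf hO hxO]
    intro hxb
    rw [mem_primeIdealOf] at hb
    rw [show ρ b = X₂.presheaf.map (homOfLE le_top).op b from rfl, Scheme.basicOpen_res] at hxb
    exact hb hxb.2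
  have hli : LinearIndependent q.ResidueField fun i => dFib (A := A) q (ρ (h i)) := by
    have : (fun i => dFib (A := A) q (ρ (h i))) = fun i => dFib (A := A) q (hc' i) := funext fun i => by
      rw [← hcρ i]
      refine dFib_eq_of_sub_mem q _ hq ?_
      rw [← map_sub, hJ]
      refine Ideal.mul_mono_left hρpr ?_
      rw [← Ideal.map_mul]
      exact Ideal.mem_map_of_mem ρ (hhc i)
    rwa [this]
  have hhJ : ∀ i, ρ (h i) ∈ RingHom.ker (algebraMap B C) := fun i => hJ.symm ▸ Ideal.mem_map_of_mem ρ (hh i)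
  obtain ⟨t, ht, hsm, heq⟩ := smooth_and_eq q hA hB hq hrank (fun i => ρ (h i)) hhJ hli
  let O' := X₂.basicOpen t
  have hO'O : O' ≤ O := X₂.basicOpen_le t
  have hO' : IsAffineOpen O' := hO.basicOpen t
  refine ⟨D, hD, O', hO', hO'O.trans hOD, not_not.mp fun hh' => ht ((mem_primeIdealOf hO hxO t).mpr hh'), ?_, ?_⟩
  · intro W j _ hjs hjk
    let R := Γ(W, j ⁻¹ᵁ O')
    let r : B →+* Γ(X₂, O') := (X₂.presheaf.map (homOfLE hO'O).op).hom
    letI : Algebra B Γ(X₂, O') := r.toAlgebra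
    haveI : IsLocalization.Away t Γ(X₂, O') := hO.isLocalization_basicOpen t
    let H := Ideal.span (Set.range fun i => ρ (h i))
    have hHmap : H.map r = RingHom.ker (j.app O').hom := by
      rw [hjk, Ideal.map_span, Ideal.map_span, ← Set.range_comp, ← Set.range_comp]
      refine congrArg _ (congrArg Set.range (funext fun i => ?_))
      show r (ρ (h i)) = _
      rw [← RingHom.comp_apply, ← CommRingCat.hom_comp, ← Functor.map_comp]
      rfl
    let ψ : B ⧸ H →+* R := Ideal.Quotient.lift H ((j.app O').hom.comp r) fun b hb => by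
      show (j.app O').hom (r b) = 0
      rw [← RingHom.mem_ker, ← hHmap]
      exact Ideal.mem_map_of_mem r hb
    letI : Algebra (B ⧸ H) R := ψ.toAlgebra
    haveI : IsLocalization.Away (Ideal.Quotient.mk H t) R := by
      have := IsLocalization.of_surjective (Submonoid.powers t) Γ(X₂, O') (Ideal.Quotient.mk H)
        Ideal.Quotient.mk_surjective (j.app O').hom hjs (RingHom.ext fun _ => rfl)
        (by rw [Ideal.mk_ker]; exact hHmap.symm.le)
      rwa [Submonoid.map_powers] at this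
    letI : Algebra A R := ((j.app O').hom.comp (f.appLE D O' (hO'O.trans hOD)).hom).toAlgebra
    haveI : IsScalarTower A (B ⧸ H) R := IsScalarTower.of_algebraMap_eq fun a => by
      show (j.app O').hom ((f.appLE D O' (hO'O.trans hOD)).hom a) = (j.app O').hom (r ((f.appLE D O hOD).hom a))
      congr 1
      rw [← RingHom.comp_apply, ← CommRingCat.hom_comp]
      exact (ConcreteCategory.congr_hom (f.appLE_map hOD (homOfLE hO'O).op) a).symm
    haveI := hsm
    exact RingHom.smooth_algebraMap.mpr (Algebra.Smooth.of_equiv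
      ((IsLocalization.algEquiv (Submonoid.powers (Ideal.Quotient.mk H t))
        (Localization.Away (Ideal.Quotient.mk H t)) R).restrictScalars A))
  · intro b hb
    let r : B →+* Γ(X₂, O') := (X₂.presheaf.map (homOfLE hO'O).op).hom
    have hkerO' : RingHom.ker (i₂.app O').hom = (RingHom.ker (algebraMap B C)).map r := by
      rw [ker_app_eq_map i₂ hO', hJ, Ideal.map_map]
      congr 1
      rw [← CommRingCat.hom_comp, ← Functor.map_comp]
      rfl
    rw [hkerO'] at hb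
    refine Ideal.map_le_iff_le_comap.mpr (fun b hb => ?_) hb
    obtain ⟨N, hN⟩ := heq b hb
    have hu : IsUnit (r (t ^ N)) := by
      letI : Algebra B Γ(X₂, O') := r.toAlgebra
      haveI : IsLocalization.Away t Γ(X₂, O') := hO.isLocalization_basicOpen t
      rw [map_pow]
      exact (IsLocalization.Away.algebraMap_isUnit t).pow N
    rw [Ideal.mem_comap, ← Ideal.unit_mul_mem_iff_mem _ hu, ← map_mul]
    have := Ideal.mem_map_of_mem r hN
    rw [Ideal.map_sup] at this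
    refine SetLike.le_def.mp (sup_le_sup ?_ ?_) this
    · rw [Ideal.map_span, Ideal.map_span, ← Set.range_comp, ← Set.range_comp]
      refine le_of_eq (congrArg _ (congrArg Set.range (funext fun i => ?_)))
      show r (ρ (h i)) = _
      rw [← RingHom.comp_apply, ← CommRingCat.hom_comp, ← Functor.map_comp]
      rfl
    · rw [Ideal.map_map]
      refine le_of_eq ?_
      congr 1
      rw [RingHom.algebraMap_toAlgebra, ← CommRingCat.hom_comp, Scheme.Hom.appLE_map]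

include hsq in
/-- Global equations near finitely many closed points. -/
theorem exists_equations_finite (S : Set X₂) (hS : S.Finite) (hScl : ∀ x ∈ S, IsClosed {x})
    (hcase : e < n ∨ S ⊆ Set.range i₂) :
    ∃ (U : X₂.Opens) (h : Fin (n - e) → Γ(X₂, ⊤)), S ⊆ (U : Set X₂) ∧ (∀ i, h i ∈ eqIdeal i₂) ∧
      ∀ y ∈ U, (∃ i, y ∈ X₂.basicOpen (h i)) ∨
        ∃ (D : X₁.Opens) (_ : IsAffineOpen D) (O : X₂.Opens) (_ : IsAffineOpen O) (eO : O ≤ f ⁻¹ᵁ D), y ∈ O ∧ O ≤ U ∧
          (∀ (W : Scheme.{u}) (j : W ⟶ X₂), IsAffineHom j → Function.Surjective (j.app O).hom →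
            RingHom.ker (j.app O).hom =
              (Ideal.span (Set.range h)).map (X₂.presheaf.map (homOfLE le_top).op).hom →
            ((f.appLE D O eO ≫ j.app O).hom).Smooth) ∧
          RingHom.ker (i₂.app O).hom ≤ (Ideal.span (Set.range h)).map (X₂.presheaf.map (homOfLE le_top).op).hom ⊔
            (RingHom.ker (i₁.app D).hom).map (f.appLE D O eO).hom := by
  classical
  haveI : Fintype S := hS.fintype
  have hmax : ∀ x : S, (pr x.1).IsMaximal := fun x =>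
    (isAffineOpen_top X₂).primeIdealOf_isMaximal_of_isClosed ⟨x.1, trivial⟩ (hScl x.1 x.2)
  have hne : Pairwise (Function.onFun IsCoprime fun x : S => pr x.1) := fun x y hxy =>
    Ideal.isCoprime_iff_sup_eq.mpr ((hmax x).coprime_of_ne (hmax y) fun he => hxy <| Subtype.ext <| by
      have h' : (isAffineOpen_top X₂).primeIdealOf ⟨x.1, trivial⟩ = (isAffineOpen_top X₂).primeIdealOf ⟨y.1, trivial⟩ :=
        PrimeSpectrum.ext he
      have := congrArg (isAffineOpen_top X₂).fromSpec h'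
      rwa [IsAffineOpen.fromSpec_primeIdealOf, IsAffineOpen.fromSpec_primeIdealOf] at this)
  have hcand : ∀ x : S, ∃ hc : Fin (n - e) → Γ(X₂, ⊤), (∀ i, hc i ∈ eqIdeal i₂) ∧
      ∀ h : Fin (n - e) → Γ(X₂, ⊤), (∀ i, h i ∈ eqIdeal i₂) → (∀ i, h i - hc i ∈ pr x.1 * eqIdeal i₂) →
        ∃ V : X₂.Opens, x.1 ∈ V ∧ ∀ y ∈ V, (∃ i, y ∈ X₂.basicOpen (h i)) ∨
        ∃ (D : X₁.Opens) (_ : IsAffineOpen D) (O : X₂.Opens) (_ : IsAffineOpen O) (eO : O ≤ f ⁻¹ᵁ D), y ∈ O ∧ O ≤ V ∧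
          (∀ (W : Scheme.{u}) (j : W ⟶ X₂), IsAffineHom j → Function.Surjective (j.app O).hom →
            RingHom.ker (j.app O).hom =
              (Ideal.span (Set.range h)).map (X₂.presheaf.map (homOfLE le_top).op).hom →
            ((f.appLE D O eO ≫ j.app O).hom).Smooth) ∧
          RingHom.ker (i₂.app O).hom ≤ (Ideal.span (Set.range h)).map (X₂.presheaf.map (homOfLE le_top).op).hom ⊔
            (RingHom.ker (i₁.app D).hom).map (f.appLE D O eO).hom := by
    intro x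
    by_cases hxZ : x.1 ∈ Set.range i₂
    · obtain ⟨hc, hcJ, H⟩ := local_data i₁ i₂ f g n e hsq (hScl x.1 x.2) hxZ
      refine ⟨hc, hcJ, fun h hh hhc => ?_⟩
      obtain ⟨D, hD, O, hO, eO, hxO, H₁, H₂⟩ := H h hh hhc
      exact ⟨O, hxO, fun y hy => .inr ⟨D, hD, O, hO, eO, hy, le_rfl, H₁, H₂⟩⟩
    · have hlt : e < n := hcase.resolve_right fun h => hxZ (h x.2)
      obtain ⟨b, hb, hbx⟩ : ∃ b ∈ eqIdeal i₂, x.1 ∈ X₂.basicOpen b := by
        by_contra hcon
        push Not at hcon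
        apply hxZ
        have hz : x.1 ∈ X₂.zeroLocus (eqIdeal i₂ : Set Γ(X₂, ⊤)) := (Scheme.mem_zeroLocus_iff X₂ _ _).mpr hcon
        have h2 : x.1 ∈ i₂.ker.support := by
          rw [Scheme.IdealSheafData.mem_support_iff_of_mem (U := ⟨⊤, isAffineOpen_top X₂⟩) trivial,
            Scheme.Hom.ker_apply]
          exact hz
        have h3 : x.1 ∈ (i₂.ker.support : Set X₂) := h2
        rw [Scheme.Hom.support_ker, i₂.isClosedEmbedding.isClosed_range.closure_eq] at h3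
        exact h3
      let i₀ : Fin (n - e) := ⟨0, Nat.sub_pos_of_lt hlt⟩
      refine ⟨fun _ => b, fun _ => hb, fun h hh hhc => ⟨X₂.basicOpen (h i₀), ?_, fun y hy => .inl ⟨i₀, hy⟩⟩⟩
      by_contra hcon
      have h1 : h i₀ ∈ pr x.1 := (mem_primeIdealOf (isAffineOpen_top X₂) trivial (h i₀)).mpr hcon
      have h2 : b ∈ pr x.1 := by
        have h3 : h i₀ - b ∈ pr x.1 := Ideal.mul_le_left (hhc i₀)
        have := sub_mem h1 h3
        rwa [sub_sub_cancel] at this
      exact (mem_primeIdealOf (isAffineOpen_top X₂) trivial b).mp h2 hbx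
  choose hc hcJ H using hcand
  choose ε hε using fun x : S => Ideal.exists_forall_sub_mem_ideal hne (fun y => if y = x then (1 : Γ(X₂, ⊤)) else 0)
  let h : Fin (n - e) → Γ(X₂, ⊤) := fun i => ∑ x : S, ε x * hc x i
  have hh : ∀ i, h i ∈ eqIdeal i₂ := fun i => sum_mem fun x _ => Ideal.mul_mem_left _ _ (hcJ x i)
  have hhc : ∀ (y : S) i, h i - hc y i ∈ pr y.1 * eqIdeal i₂ := fun y i => by
    have : h i - hc y i = ∑ x : S, (ε x - if y = x then 1 else 0) * hc x i := by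
      simp [h, sub_mul, Finset.sum_sub_distrib]
    rw [this]
    exact sum_mem fun x _ => Ideal.mul_mem_mul (hε x y) (hcJ x i)
  choose V hxV hV using fun x => H x h hh (hhc x)
  refine ⟨⨆ x, V x, h, fun x hx => Opens.mem_iSup.mpr ⟨⟨x, hx⟩, hxV _⟩, hh, fun y hy => ?_⟩
  obtain ⟨x, hyx⟩ := Opens.mem_iSup.mp hy
  rcases hV x y hyx with h' | ⟨D, hD, O, hO, eO, hyO, hOV, H₁, H₂⟩
  · exact .inl h'
  · exact .inr ⟨D, hD, O, hO, eO, hyO, hOV.trans (le_iSup V x), H₁, H₂⟩

include hsq in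
/-- The statement on an affine scheme. -/
theorem exists_smooth_through (T : Set X₂) (hT : T.Finite) (hcase : e < n ∨ T ⊆ Set.range i₂) :
    ∃ U : X₂.Opens, T ⊆ (U : Set X₂) ∧
      ∃ (W : Scheme.{u}) (k : W ⟶ (U : Scheme.{u}))
        (m : ((i₂ ⁻¹ᵁ U : Z₂.Opens) : Scheme.{u}) ⟶ W),
        IsClosedImmersion k ∧ m ≫ k = i₂ ∣_ U ∧ AlgebraicGeometry.Smooth (k ≫ U.ι ≫ f) ∧
          IsPullback m ((i₂ ⁻¹ᵁ U).ι ≫ g) (k ≫ U.ι ≫ f) i₁ := by
  classical
  have hs : ∀ t : T, ∃ x : X₂, IsClosed {x} ∧ t.1 ⤳ x := fun t => by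
    obtain ⟨x, hx, hcl⟩ := (isClosed_closure (s := {t.1})).exists_closed_singleton ⟨t.1, subset_closure rfl⟩
    exact ⟨x, hcl, specializes_iff_mem_closure.mpr hx⟩
  choose s hscl hsp using hs
  haveI := hT.fintype
  obtain ⟨U, h, hSU, hh, hU⟩ := exists_equations_finite i₁ i₂ f g n e hsq (Set.range s) (Set.finite_range s)
    (by rintro _ ⟨t, rfl⟩; exact hscl t)
    (hcase.imp_right fun h => by
      rintro _ ⟨t, rfl⟩
      exact (hsp t).mem_closed i₂.isClosedEmbedding.isClosed_range (h t.2))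
  let 𝓘 := Scheme.IdealSheafData.ofIdealTop (Ideal.span (Set.range h))
  let j := 𝓘.subschemeι
  let k : (j ⁻¹ᵁ U).toScheme ⟶ U.toScheme := j ∣_ U
  let F := (j ⁻¹ᵁ U).ι ≫ j
  have hkU : k ≫ U.ι = F := morphismRestrict_ι j U
  have hle : j.ker ≤ i₂.ker := by
    rw [Scheme.IdealSheafData.ker_subschemeι]
    refine Scheme.IdealSheafData.le_of_isAffine ?_
    rw [Scheme.Hom.ker_apply]
    simp only [𝓘, Scheme.IdealSheafData.ofIdealTop_ideal]
    refine Ideal.map_le_iff_le_comap.mpr (Ideal.span_le.mpr ?_)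
    rintro _ ⟨i, rfl⟩
    simpa using hh i
  let m₀ := IsClosedImmersion.lift j i₂ hle
  have hm₀ : m₀ ≫ j = i₂ := IsClosedImmersion.lift_fac _ _ _
  let m : (i₂ ⁻¹ᵁ U).toScheme ⟶ (j ⁻¹ᵁ U).toScheme := m₀.resLE (j ⁻¹ᵁ U) (i₂ ⁻¹ᵁ U)
    (by rw [← Scheme.Hom.comp_preimage, hm₀])
  have hmF : m ≫ F = (i₂ ⁻¹ᵁ U).ι ≫ i₂ := by
    simp only [m, F, Scheme.Hom.resLE_comp_ι_assoc, hm₀]
  have hmk : m ≫ k = i₂ ∣_ U := by
    rw [← cancel_mono U.ι, Category.assoc, hkU, hmF, morphismRestrict_ι]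
  haveI : IsClosedImmersion k := inferInstance
  haveI : IsClosedImmersion (m ≫ k) := by rw [hmk]; infer_instance
  haveI : IsClosedImmersion m := IsClosedImmersion.of_comp m k
  have hfU : k ≫ U.ι ≫ f = F ≫ f := by rw [← Category.assoc, hkU]
  have hw : m ≫ (k ≫ U.ι ≫ f) = ((i₂ ⁻¹ᵁ U).ι ≫ g) ≫ i₁ := by
    rw [hfU, ← Category.assoc, hmF, Category.assoc, hsq, Category.assoc]
  -- the cover of `W`
  have hloc : ∀ w : (j ⁻¹ᵁ U).toScheme,
      ∃ (D : X₁.Opens) (_ : IsAffineOpen D) (O : X₂.Opens) (_ : IsAffineOpen O) (eO : O ≤ f ⁻¹ᵁ D), F w ∈ O ∧ O ≤ U ∧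
        Function.Surjective (j.app O).hom ∧ RingHom.ker (j.app O).hom =
            (Ideal.span (Set.range h)).map (X₂.presheaf.map (homOfLE le_top).op).hom ∧
        ((f.appLE D O eO ≫ j.app O).hom).Smooth ∧
        RingHom.ker (i₂.app O).hom ≤ (Ideal.span (Set.range h)).map (X₂.presheaf.map (homOfLE le_top).op).hom ⊔
            (RingHom.ker (i₁.app D).hom).map (f.appLE D O eO).hom := by
    intro w
    have hwU : F w ∈ U := by rw [show F w = j w.1 from rfl]; exact w.2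
    rcases hU (F w) hwU with ⟨i, hi⟩ | ⟨D, hD, O, hO, eO, hwO, hOU, H₁, H₂⟩
    · exfalso
      have h0 : w.1 ∈ 𝓘.subscheme.basicOpen ((j.app ⊤).hom (h i)) := by
        rw [← Scheme.preimage_basicOpen]; exact hi
      have hz : (j.app ⊤).hom (h i) = 0 := by
        rw [← RingHom.mem_ker, Scheme.IdealSheafData.ker_subschemeι_app 𝓘 ⟨⊤, isAffineOpen_top X₂⟩]
        simp only [𝓘, Scheme.IdealSheafData.ofIdealTop_ideal]
        simpa using (Ideal.subset_span ⟨i, rfl⟩ : h i ∈ Ideal.span (Set.range h))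
      rw [hz, Scheme.basicOpen_zero] at h0
      exact h0
    · have hk : RingHom.ker (j.app O).hom =
          (Ideal.span (Set.range h)).map (X₂.presheaf.map (homOfLE le_top).op).hom :=
        Scheme.IdealSheafData.ker_subschemeι_app 𝓘 ⟨O, hO⟩
      exact ⟨D, hD, O, hO, eO, hwO, hOU, 𝓘.subschemeι_app_surjective ⟨O, hO⟩, hk,
        H₁ _ j inferInstance (𝓘.subschemeι_app_surjective ⟨O, hO⟩) hk, H₂⟩
  choose D hD O hO eO hwO hOU hjs hjk hjsm hjI using hloc
  let Vw : ∀ w, (j ⁻¹ᵁ U).toScheme.Opens := fun w => F ⁻¹ᵁ O w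
  refine ⟨U, fun t ht => (hsp ⟨t, ht⟩).mem_open U.2 (hSU ⟨⟨t, ht⟩, rfl⟩), _, k, m, inferInstance, hmk, ?_, ?_⟩
  · rw [hfU]
    refine (HasRingHomProperty.iff_exists_appLE (P := @Smooth)
      (RingHom.Smooth.stableUnderComposition.stableUnderCompositionWithLocalizationAway
        RingHom.Smooth.holdsForLocalizationAway).1).mpr fun w => ?_
    obtain ⟨O₁, hO₁, hwO₁, hO₁le⟩ := exists_isAffineOpen_mem_and_subset (show w ∈ Vw w from hwO w)
    refine ⟨⟨D w, hD w⟩, ⟨O₁, hO₁⟩, hwO₁, fun y hy => eO w (hO₁le hy), ?_⟩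
    have hfac : (F ≫ f).appLE (D w) O₁ (fun y hy => eO w (hO₁le hy)) =
        (f.appLE (D w) (O w) (eO w) ≫ j.app (O w)) ≫ (j ⁻¹ᵁ U).ι.appLE (j ⁻¹ᵁ O w) O₁ hO₁le := by
      simp only [Scheme.Hom.app_eq_appLE, Scheme.Hom.appLE_comp_appLE, Category.assoc, F]
    show ((F ≫ f).appLE (D w) O₁ _).hom.Smooth
    rw [hfac, CommRingCat.hom_comp]
    exact RingHom.Smooth.comp (hjsm w) (((j ⁻¹ᵁ U).ι).smooth_appLE ((hO w).preimage j) hO₁ _)
  · let P := pullback (k ≫ U.ι ≫ f) i₁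
    let fst : P ⟶ (j ⁻¹ᵁ U).toScheme := pullback.fst _ _
    let snd : P ⟶ Z₁ := pullback.snd _ _
    have hker : m.ker ≤ fst.ker := by
      refine Scheme.IdealSheafData.le_of_iSup_eq_top
        (ι := {p : (j ⁻¹ᵁ U).toScheme × (j ⁻¹ᵁ U).toScheme.affineOpens // p.2.1 ≤ Vw p.1}) (fun p => p.1.2) ?_ fun p => ?_
      · refine top_le_iff.mp fun w _ => ?_
        obtain ⟨O₁, hO₁, hwO₁, hO₁le⟩ := exists_isAffineOpen_mem_and_subset (show w ∈ Vw w from hwO w)
        exact Opens.mem_iSup.mpr ⟨⟨⟨w, ⟨O₁, hO₁⟩⟩, hO₁le⟩, hwO₁⟩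
      · obtain ⟨⟨w, O₁⟩, hO₁le⟩ := p
        have hV : IsAffineOpen (Vw w) := ((hO w).preimage j).preimage_of_isOpenImmersion (j ⁻¹ᵁ U).ι
          (by rw [Scheme.Opens.opensRange_ι]; exact j.preimage_mono (hOU w))
        rw [← m.ker.map_ideal (U := O₁) (V := ⟨Vw w, hV⟩) hO₁le, ← fst.ker.map_ideal (U := O₁) (V := ⟨Vw w, hV⟩) hO₁le]
        refine Ideal.map_mono ?_
        rw [Scheme.Hom.ker_apply, Scheme.Hom.ker_apply]
        intro a ha
        haveI : IsIso ((j ⁻¹ᵁ U).ι.app (j ⁻¹ᵁ O w)) := (j ⁻¹ᵁ U).ι.isIso_app _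
          (by rw [Scheme.Opens.opensRange_ι]; exact j.preimage_mono (hOU w))
        have hFs : Function.Surjective (F.app (O w)).hom :=
          (ConcreteCategory.bijective_of_isIso ((j ⁻¹ᵁ U).ι.app (j ⁻¹ᵁ O w))).2.comp (hjs w)
        obtain ⟨b, rfl⟩ := hFs a
        have h1 : (m ≫ F).app (O w) b = 0 := ha
        rw [Scheme.Hom.congr_app hmF (O w)] at h1
        have h2 : ((i₂ ⁻¹ᵁ U).ι ≫ i₂).app (O w) b = 0 :=
          (ConcreteCategory.bijective_of_isIso ((i₂ ⁻¹ᵁ U).toScheme.presheaf.map _)).1 (h1.trans (map_zero _).symm)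
        haveI : IsIso ((i₂ ⁻¹ᵁ U).ι.app (i₂ ⁻¹ᵁ O w)) := (i₂ ⁻¹ᵁ U).ι.isIso_app _
          (by rw [Scheme.Opens.opensRange_ι]; exact i₂.preimage_mono (hOU w))
        have h3 : i₂.app (O w) b = 0 :=
          (ConcreteCategory.bijective_of_isIso ((i₂ ⁻¹ᵁ U).ι.app (i₂ ⁻¹ᵁ O w))).1 (h2.trans (map_zero _).symm)
        refine SetLike.le_def.mp (sup_le ?_ ?_ : _ ≤ RingHom.ker ((fst ≫ F).app (O w)).hom) (hjI w h3)
        · rw [← hjk w]
          intro c hc
          show (fst.app _).hom (((j ⁻¹ᵁ U).ι.app _).hom ((j.app (O w)).hom c)) = 0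
          rw [show (j.app (O w)).hom c = 0 from hc, map_zero, map_zero]
        · refine Ideal.map_le_iff_le_comap.mpr fun c hc => ?_
          have hfs : (fst ≫ F) ≫ f = snd ≫ i₁ := by
            rw [Category.assoc, ← hfU]; exact pullback.condition
          have hle' : (fst ≫ F) ⁻¹ᵁ O w ≤ (snd ≫ i₁) ⁻¹ᵁ D w := by
            rw [← hfs]; exact fun y hy => eO w hy
          have h4 : (f.appLE (D w) (O w) (eO w) ≫ (fst ≫ F).app (O w)) =
              i₁.app (D w) ≫ snd.appLE (i₁ ⁻¹ᵁ D w) ((fst ≫ F) ⁻¹ᵁ O w) hle' := by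
            simp only [Scheme.Hom.app_eq_appLE, Scheme.Hom.appLE_comp_appLE, hfs]
          show ((fst ≫ F).app (O w)).hom ((f.appLE (D w) (O w) (eO w)).hom c) = 0
          refine (ConcreteCategory.congr_hom h4 c).trans ?_
          show (snd.appLE _ _ hle').hom ((i₁.app (D w)).hom c) = 0
          rw [show (i₁.app (D w)).hom c = 0 from hc, map_zero]
    haveI : IsClosedImmersion fst := inferInstance
    let d : P ⟶ (i₂ ⁻¹ᵁ U).toScheme := IsClosedImmersion.lift m fst hker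
    have hd : d ≫ m = fst := IsClosedImmersion.lift_fac _ _ _
    let c : (i₂ ⁻¹ᵁ U).toScheme ⟶ P := pullback.lift m ((i₂ ⁻¹ᵁ U).ι ≫ g) hw
    refine IsPullback.of_iso_pullback ⟨hw⟩ ⟨c, d, ?_, ?_⟩ (pullback.lift_fst _ _ _) (pullback.lift_snd _ _ _)
    · rw [← cancel_mono m, Category.assoc, hd, pullback.lift_fst, Category.id_comp]
    · rw [← cancel_mono fst, Category.assoc, pullback.lift_fst, hd, Category.id_comp]

end Groth.L07.SmoothThru
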